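import Cfsg.Agent.H202.RC.Frame
import Cfsg.Agent.H106.RC.Descent
import Cfsg.Agent.S2690

/-!
# S3510, row A, box RED: from `PSL_n(F)` to the vector space frame

* `kap e : SL(V) →* G`, `frame_of_iso`, `lift_or_dual` (semilinear lift or duality lift of every `x : G`);
* calculus of semilinear lifts: `scj`, `lifts_mul`, `lifts_inv`, `lift_unique`, `pow_scalar`, `comm_scalar`;
* `SemiCov`; `SemiCov.linCov` (all lifts linear), `SemiCov.field` (standard field automorphism, commuting lifts);
* `red_A`, `red_A_split`: `RCe` for all `g ∈ gammaPSL n F`; `gamma_index`: the index is at most two.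
-/

set_option autoImplicit false
set_option linter.unusedSectionVars false
open Cfsg

namespace Cfsg.Agent.H233.RC

open MulAction Cfsg.Agent.H106.RC Cfsg.Agent.H202.RC Module
open scoped commutatorElement

section kappa

variable {F G Ω : Type} [Field F] [Group G] [MulAction G Ω] {n : ℕ}

/-- the map `SL(V) → G` attached to an isomorphism `N ≃ PSL_n(F)` -/
noncomputable def kap {N : Subgroup G} (e : N ≃* Matrix.ProjectiveSpecialLinearGroup (Fin n) F) :
    SLV F (Fin n → F) →* G :=
  N.subtype.comp (e.symm.toMonoidHom.comp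
    ((QuotientGroup.mk' (Subgroup.center (Matrix.SpecialLinearGroup (Fin n) F))).comp
      (slE (Pi.basisFun F (Fin n))).symm.toMonoidHom))

theorem kap_slE {N : Subgroup G} (e : N ≃* Matrix.ProjectiveSpecialLinearGroup (Fin n) F)
    (A : Matrix.SpecialLinearGroup (Fin n) F) :
    kap e (slE (Pi.basisFun F (Fin n)) A) = (e.symm (QuotientGroup.mk A) : G) := by
  simp [kap]

theorem slE_std (A : Matrix.SpecialLinearGroup (Fin n) F) (v : Fin n → F) :
    (slE (Pi.basisFun F (Fin n)) A : (Fin n → F) ≃ₗ[F] (Fin n → F)) v = A.1.mulVec v := by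
  rw [slE_apply, Matrix.toLin_eq_toLin', Matrix.toLin'_apply]

theorem frame_of_iso {N : Subgroup G} (hE : Env G Ω N)
    (e : N ≃* Matrix.ProjectiveSpecialLinearGroup (Fin n) F) : Frame Ω N (kap e) where
  env := hE
  range := by
    apply le_antisymm
    · rintro _ ⟨s, rfl⟩
      exact SetLike.coe_mem _
    · intro g hg
      obtain ⟨A, hA⟩ := QuotientGroup.mk_surjective (e ⟨g, hg⟩)
      refine ⟨slE (Pi.basisFun F (Fin n)) A, ?_⟩
      rw [kap_slE, hA, MulEquiv.symm_apply_apply]
  ker := by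
    intro s
    obtain ⟨A, rfl⟩ := (slE (Pi.basisFun F (Fin n))).surjective s
    rw [kap_slE]
    have h1 : ((e.symm (QuotientGroup.mk A) : N) : G) = 1 ↔
        A ∈ Subgroup.center (Matrix.SpecialLinearGroup (Fin n) F) := by
      rw [← QuotientGroup.eq_one_iff, ← e.symm.map_eq_one_iff]
      exact OneMemClass.coe_eq_one
    rw [h1, Matrix.SpecialLinearGroup.mem_center_iff]
    constructor
    · rintro ⟨r, -, hr⟩
      refine ⟨r, fun v => ?_⟩
      rw [slE_std]
      have h2 : A.1 = Matrix.scalar (Fin n) r := hr.symm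
      rw [h2, Matrix.scalar_apply, ← Matrix.smul_one_eq_diagonal, Matrix.smul_mulVec, Matrix.one_mulVec]
    · rintro ⟨c, hc⟩
      have h3 : Matrix.scalar (Fin n) c = A.1 := by
        apply Matrix.toLin'.injective
        apply LinearMap.ext
        intro v
        rw [Matrix.toLin'_apply, Matrix.toLin'_apply, ← slE_std, hc, Matrix.scalar_apply,
          ← Matrix.smul_one_eq_diagonal, Matrix.smul_mulVec, Matrix.one_mulVec]
      refine ⟨c, ?_, h3⟩
      have h4 := congrArg Matrix.det h3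
      rw [A.2, Matrix.scalar_apply, Matrix.det_diagonal, Finset.prod_const, Finset.card_univ] at h4
      exact h4

end kappa

section lifts

variable {F G Ω : Type} [Field F] [Group G] [MulAction G Ω] {n : ℕ}

/-- the semilinear map `v ↦ A σ(v)` -/
noncomputable def semiMap (A : GL (Fin n) F) (σ : F ≃+* F) : (Fin n → F) ≃+ (Fin n → F) where
  toFun v := (A : Matrix (Fin n) (Fin n) F).mulVec (fun i => σ (v i))
  invFun w := fun i => σ.symm (((A⁻¹ : GL (Fin n) F) : Matrix (Fin n) (Fin n) F).mulVec w i)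
  left_inv v := by
    funext i
    simp only
    rw [Matrix.mulVec_mulVec, ← Units.val_mul, inv_mul_cancel, Units.val_one, Matrix.one_mulVec,
      RingEquiv.symm_apply_apply]
  right_inv w := by
    simp only [RingEquiv.apply_symm_apply]
    rw [Matrix.mulVec_mulVec, ← Units.val_mul, mul_inv_cancel, Units.val_one, Matrix.one_mulVec]
  map_add' v w := by
    rw [← Matrix.mulVec_add]
    congr 1
    funext i
    simp

theorem semiMap_apply (A : GL (Fin n) F) (σ : F ≃+* F) (v : Fin n → F) :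
    semiMap A σ v = (A : Matrix (Fin n) (Fin n) F).mulVec (fun i => σ (v i)) := rfl

theorem semiMap_smul (A : GL (Fin n) F) (σ : F ≃+* F) (c : F) (v : Fin n → F) :
    semiMap A σ (c • v) = σ c • semiMap A σ v := by
  rw [semiMap_apply, semiMap_apply, ← Matrix.mulVec_smul]
  congr 1
  funext i
  simp

/-- the automorphism of `PSL_n(F)` induced by `x` -/
noncomputable def indAut {N : Subgroup G} (hN : N.Normal) (e : N ≃* Matrix.ProjectiveSpecialLinearGroup (Fin n) F)
    (x : G) : MulAut (Matrix.ProjectiveSpecialLinearGroup (Fin n) F) :=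
  e.symm.trans ((MulAut.conjNormal x).trans e)

theorem indAut_spec {N : Subgroup G} (hN : N.Normal) (e : N ≃* Matrix.ProjectiveSpecialLinearGroup (Fin n) F)
    (x : G) (t : Matrix.ProjectiveSpecialLinearGroup (Fin n) F) :
    (e.symm (indAut hN e x t) : G) = x * (e.symm t : G) * x⁻¹ := by
  simp [indAut, MulAut.conjNormal_apply]

/-- a sesquilinear form on `V`, semilinear in the first variable, nondegenerate -/
structure Sesq (F : Type) {V : Type} [Field F] [AddCommGroup V] [Module F V] (β : V → V → F) : Prop where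
  add_left : ∀ u v w, β (u + v) w = β u w + β v w
  add_right : ∀ u v w, β u (v + w) = β u v + β u w
  smul_right : ∀ (c : F) v w, β v (c • w) = c * β v w
  semi : ∃ σ : F ≃+* F, ∀ (c : F) v w, β (c • v) w = σ c * β v w
  left : ∀ v, (∀ w, β v w = 0) → v = 0
  right : ∀ w, (∀ v, β v w = 0) → w = 0

/-- `x` is of duality type with form `β` -/
def DualLift {F V G : Type} [Field F] [AddCommGroup V] [Module F V] [Group G] (κ : SLV F V →* G) (x : G)
    (β : V → V → F) : Prop :=
  ∀ s s' : SLV F V, (∀ v w, β ((s : V ≃ₗ[F] V) v) ((s' : V ≃ₗ[F] V) w) = β v w) → x * κ s * x⁻¹ = κ s'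

theorem lift_or_dual [Fintype F] (hn : 2 ≤ n) (hs : n = 2 → 4 ≤ Fintype.card F) {N : Subgroup G} (hN : N.Normal)
    (e : N ≃* Matrix.ProjectiveSpecialLinearGroup (Fin n) F) (x : G) :
    (∃ f : (Fin n → F) ≃+ (Fin n → F), Semi F f ∧ Lifts (kap e) x f) ∨
      ∃ β : (Fin n → F) → (Fin n → F) → F, Sesq F β ∧ DualLift (kap e) x β := by
  obtain ⟨p, hp⟩ := CharP.exists F
  obtain ⟨k, hpp, hk⟩ := FiniteField.card F p
  have : Fact p.Prime := ⟨hpp⟩
  obtain ⟨δ, φ, γ, σ, ⟨A, hA⟩, hφ, hγ, hx⟩ := S2690.result (F := F) (p := p) (f := k) hk k.2 hn hs (indAut hN e x)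
  rcases hγ with rfl | hγ
  · left
    refine ⟨semiMap A σ, ⟨σ, semiMap_smul A σ⟩, ?_⟩
    intro s s' hss
    obtain ⟨S, rfl⟩ := (slE (Pi.basisFun F (Fin n))).surjective s
    obtain ⟨S', rfl⟩ := (slE (Pi.basisFun F (Fin n))).surjective s'
    rw [kap_slE, kap_slE, ← indAut_spec hN]
    congr 2
    rw [hx, mul_one, MulAut.mul_apply]
    let T : Matrix.SpecialLinearGroup (Fin n) F := ⟨S.1.map σ, by
      have := σ.toRingHom.map_det S.1
      rw [S.2, map_one] at this
      exact this.symm⟩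
    rw [hφ S T rfl]
    apply hA
    have h1 : ∀ v, S'.1.mulVec ((A : Matrix (Fin n) (Fin n) F).mulVec v) =
        (A : Matrix (Fin n) (Fin n) F).mulVec (T.1.mulVec v) := by
      intro v
      have h2 := hss (fun i => σ.symm (v i))
      simp only [slE_std, semiMap_apply, RingEquiv.apply_symm_apply] at h2
      rw [h2]
      congr 1
      funext i
      simp only [Matrix.mulVec, dotProduct, T, Matrix.map_apply, map_sum, map_mul, RingEquiv.apply_symm_apply]
    have h3 : S'.1 * (A : Matrix (Fin n) (Fin n) F) = (A : Matrix (Fin n) (Fin n) F) * T.1 := by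
      apply Matrix.toLin'.injective
      apply LinearMap.ext
      intro v
      rw [Matrix.toLin'_apply, Matrix.toLin'_apply, ← Matrix.mulVec_mulVec, ← Matrix.mulVec_mulVec, h1]
    rw [← h3, mul_assoc, ← Units.val_mul, mul_inv_cancel, Units.val_one, mul_one]
  · right
    let β : (Fin n → F) → (Fin n → F) → F := fun v w =>
      (fun i => σ (v i)) ⬝ᵥ (((A⁻¹ : GL (Fin n) F) : Matrix (Fin n) (Fin n) F).mulVec w)
    have hβ : ∀ v w, β v w = (fun i => σ (v i)) ⬝ᵥ
        (((A⁻¹ : GL (Fin n) F) : Matrix (Fin n) (Fin n) F).mulVec w) := fun v w => rfl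
    refine ⟨β, ⟨?_, ?_, ?_, ⟨σ, ?_⟩, ?_, ?_⟩, ?_⟩
    · intro u v w
      rw [hβ, hβ, hβ, ← add_dotProduct]
      congr 1
      funext i
      simp
    · intro u v w
      rw [hβ, hβ, hβ, Matrix.mulVec_add, dotProduct_add]
    · intro c v w
      rw [hβ, hβ, Matrix.mulVec_smul, dotProduct_smul, smul_eq_mul]
    · intro c v w
      rw [hβ, hβ, ← smul_eq_mul, ← smul_dotProduct]
      congr 1
      funext i
      simp
    · intro v hv
      funext i
      have h1 := hv ((A : Matrix (Fin n) (Fin n) F).mulVec (Pi.single i 1))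
      rw [hβ, Matrix.mulVec_mulVec, ← Units.val_mul, inv_mul_cancel, Units.val_one, Matrix.one_mulVec,
        dotProduct_single, mul_one] at h1
      exact (map_eq_zero σ).1 h1
    · intro w hw
      have h1 : ((A⁻¹ : GL (Fin n) F) : Matrix (Fin n) (Fin n) F).mulVec w = 0 := by
        funext i
        have h2 := hw (Pi.single i 1)
        have h3 : (fun j => σ ((Pi.single i (1 : F) : Fin n → F) j)) = Pi.single i 1 := by
          funext j
          by_cases hj : j = i
          · subst hj; simp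
          · simp [Pi.single_eq_of_ne hj]
        rw [hβ, h3, single_dotProduct, one_mul] at h2
        exact h2
      have h4 := congrArg ((A : Matrix (Fin n) (Fin n) F).mulVec) h1
      rwa [Matrix.mulVec_mulVec, ← Units.val_mul, mul_inv_cancel, Units.val_one, Matrix.one_mulVec,
        Matrix.mulVec_zero] at h4
    · intro s s' hss
      obtain ⟨S, rfl⟩ := (slE (Pi.basisFun F (Fin n))).surjective s
      obtain ⟨S', rfl⟩ := (slE (Pi.basisFun F (Fin n))).surjective s'
      rw [kap_slE, kap_slE, ← indAut_spec hN]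
      congr 2
      rw [hx, MulAut.mul_apply, MulAut.mul_apply]
      let U : Matrix.SpecialLinearGroup (Fin n) F :=
        ⟨((S⁻¹ : Matrix.SpecialLinearGroup (Fin n) F) : Matrix (Fin n) (Fin n) F).transpose, by
          rw [Matrix.det_transpose, (S⁻¹ : Matrix.SpecialLinearGroup (Fin n) F).2]⟩
      rw [hγ S U rfl]
      let T : Matrix.SpecialLinearGroup (Fin n) F := ⟨U.1.map σ, by
        have := σ.toRingHom.map_det U.1
        rw [U.2, map_one] at this
        exact this.symm⟩
      rw [hφ U T rfl]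
      apply hA
      have h0 : T.1 * (S.1.transpose.map σ) = 1 := by
        have h1 : U.1 * S.1.transpose = 1 := by
          change ((S⁻¹ : Matrix.SpecialLinearGroup (Fin n) F) : Matrix (Fin n) (Fin n) F).transpose *
            S.1.transpose = 1
          rw [← Matrix.transpose_mul]
          have h2 : (S.1 * ((S⁻¹ : Matrix.SpecialLinearGroup (Fin n) F) : Matrix (Fin n) (Fin n) F)) = 1 := by
            have h3 := congrArg Subtype.val (mul_inv_cancel S)
            exact h3
          rw [h2, Matrix.transpose_one]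
        have h2 := congrArg (fun M : Matrix (Fin n) (Fin n) F => M.map σ) h1
        simp only [Matrix.map_mul] at h2
        rw [Matrix.map_one _ (map_zero σ) (map_one σ)] at h2
        exact h2
      have h1 : (S.1.transpose.map σ) * (((A⁻¹ : GL (Fin n) F) : Matrix (Fin n) (Fin n) F) * S'.1) =
          ((A⁻¹ : GL (Fin n) F) : Matrix (Fin n) (Fin n) F) := by
        apply Matrix.toLin'.injective
        apply LinearMap.ext
        intro w
        rw [Matrix.toLin'_apply, Matrix.toLin'_apply, ← Matrix.mulVec_mulVec, ← Matrix.mulVec_mulVec]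
        funext i
        have h2 := hss (Pi.single i 1) w
        have h3 : (fun j => σ ((Pi.single i (1 : F) : Fin n → F) j)) = Pi.single i 1 := by
          funext j
          by_cases hj : j = i
          · subst hj; simp
          · simp [Pi.single_eq_of_ne hj]
        simp only [hβ, slE_std] at h2
        rw [h3, single_dotProduct, one_mul] at h2
        rw [← h2]
        simp only [Matrix.mulVec, dotProduct, Matrix.map_apply, Matrix.transpose_apply]
        congr 1
        funext j
        congr 2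
        simp [Pi.single_apply]
      calc S'.1 = (A : Matrix (Fin n) (Fin n) F) * (T.1 * (S.1.transpose.map σ)) *
            ((A⁻¹ : GL (Fin n) F) : Matrix (Fin n) (Fin n) F) * S'.1 := by
            rw [h0, mul_one, ← Units.val_mul, mul_inv_cancel, Units.val_one, one_mul]
        _ = (A : Matrix (Fin n) (Fin n) F) * T.1 * ((S.1.transpose.map σ) *
            (((A⁻¹ : GL (Fin n) F) : Matrix (Fin n) (Fin n) F) * S'.1)) := by
            simp only [mul_assoc]
        _ = _ := by rw [h1]

end lifts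

section scj

variable {F V : Type} [Field F] [AddCommGroup V] [Module F V]

/-- `f` is `σ`-semilinear -/
def SL (σ : F ≃+* F) (f : V ≃+ V) : Prop := ∀ (c : F) (v : V), f (c • v) = σ c • f v

theorem SL.symm {σ : F ≃+* F} {f : V ≃+ V} (h : SL σ f) : SL σ.symm f.symm := by
  intro c v
  apply f.injective
  rw [f.apply_symm_apply, h, f.apply_symm_apply, σ.apply_symm_apply]

theorem SL.trans {σ τ : F ≃+* F} {f g : V ≃+ V} (hf : SL σ f) (hg : SL τ g) : SL (τ.trans σ) (g.trans f) := by
  intro c v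
  rw [AddEquiv.trans_apply, AddEquiv.trans_apply, hg, hf]
  rfl

/-- conjugation of a linear bijection by a semilinear one -/
noncomputable def conjL {σ : F ≃+* F} {f : V ≃+ V} (h : SL σ f) (s : V ≃ₗ[F] V) : V ≃ₗ[F] V where
  toFun v := f (s (f.symm v))
  invFun v := f (s.symm (f.symm v))
  left_inv v := by simp
  right_inv v := by simp
  map_add' v w := by simp
  map_smul' c v := by
    rw [h.symm, map_smul, h, σ.apply_symm_apply]
    rfl

theorem conjL_apply {σ : F ≃+* F} {f : V ≃+ V} (h : SL σ f) (s : V ≃ₗ[F] V) (v : V) :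
    conjL h s v = f (s (f.symm v)) := rfl

theorem conjL_mul {σ : F ≃+* F} {f : V ≃+ V} (h : SL σ f) (s t : V ≃ₗ[F] V) :
    conjL h (s * t) = conjL h s * conjL h t := by
  apply LinearEquiv.ext
  intro v
  simp [conjL_apply, LinearEquiv.mul_apply]

theorem conjL_one {σ : F ≃+* F} {f : V ≃+ V} (h : SL σ f) : conjL h (1 : V ≃ₗ[F] V) = 1 := by
  apply LinearEquiv.ext
  intro v
  simp [conjL_apply]

/-- the form `σ ∘ φ ∘ f⁻¹` -/
noncomputable def conjD {σ : F ≃+* F} {f : V ≃+ V} (h : SL σ f) (φ : Dual F V) : Dual F V where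
  toFun v := σ (φ (f.symm v))
  map_add' v w := by simp
  map_smul' c v := by
    rw [h.symm, map_smul, smul_eq_mul, map_mul, σ.apply_symm_apply]
    rfl

theorem conjD_apply {σ : F ≃+* F} {f : V ≃+ V} (h : SL σ f) (φ : Dual F V) (v : V) :
    conjD h φ v = σ (φ (f.symm v)) := rfl

theorem conjL_tv {σ : F ≃+* F} {f : V ≃+ V} (h : SL σ f) (φ : Dual F V) (w : V) (hw : φ w = 0) :
    conjL h (tv φ w hw : V ≃ₗ[F] V) = (tv (conjD h φ) (f w) (by
      rw [conjD_apply, f.symm_apply_apply, hw, map_zero]) : V ≃ₗ[F] V) := by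
  apply LinearEquiv.ext
  intro v
  rw [conjL_apply, tv_apply, tv_apply, map_add, f.apply_symm_apply, h, conjD_apply]

theorem conjL_mem [Module.Finite F V] {σ : F ≃+* F} {f : V ≃+ V} (h : SL σ f) (s : SLV F V) :
    conjL h (s : V ≃ₗ[F] V) ∈ SLV F V := by
  have hs : s ∈ Subgroup.closure {s : SLV F V | ∃ (φ : Dual F V) (v : V) (h : φ v = 0), s = tv φ v h} := by
    rw [closure_tv]; trivial
  have hinv : ∀ t : V ≃ₗ[F] V, conjL h t⁻¹ = (conjL h t)⁻¹ := by
    intro t
    rw [eq_inv_iff_mul_eq_one, ← conjL_mul, inv_mul_cancel, conjL_one]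
  induction hs using Subgroup.closure_induction with
  | mem s hs =>
    obtain ⟨φ, v, hv, rfl⟩ := hs
    rw [conjL_tv]
    exact SetLike.coe_mem _
  | one =>
    rw [Subgroup.coe_one, conjL_one]
    exact one_mem _
  | mul s t _ _ ihs iht =>
    rw [Subgroup.coe_mul, conjL_mul]
    exact mul_mem ihs iht
  | inv s _ ihs =>
    rw [Subgroup.coe_inv, hinv]
    exact inv_mem ihs

/-- conjugation of `SL(V)` by a semilinear bijection -/
noncomputable def scj [Module.Finite F V] {σ : F ≃+* F} {f : V ≃+ V} (h : SL σ f) (s : SLV F V) : SLV F V :=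
  ⟨conjL h (s : V ≃ₗ[F] V), conjL_mem h s⟩

theorem scj_apply [Module.Finite F V] {σ : F ≃+* F} {f : V ≃+ V} (h : SL σ f) (s : SLV F V) (v : V) :
    (scj h s : V ≃ₗ[F] V) (f v) = f ((s : V ≃ₗ[F] V) v) := by
  change f (s.1 (f.symm (f v))) = _
  rw [f.symm_apply_apply]

/-- a semilinear map commuting with `SL(V)` up to scalars is a scalar -/
theorem scalar_of_comm [Module.Finite F V] (hd : 2 ≤ finrank F V) {σ : F ≃+* F} {h : V ≃+ V} (_hh : SL σ h)
    (hc : ∀ s : SLV F V, ∃ ζ : F, ∀ v, h ((s : V ≃ₗ[F] V) v) = ζ • (s : V ≃ₗ[F] V) (h v)) :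
    ∃ c : F, c ≠ 0 ∧ ∀ v, h v = c • v := by
  have h1 : ∀ (w : V) (φ : Dual F V), φ w = 0 → φ (h w) = 0 := by
    intro w φ hφ
    by_cases hw : w = 0
    · subst hw
      rw [map_zero, map_zero]
    obtain ⟨ζ, hζ⟩ := hc (tv φ w hφ)
    have h2 := hζ w
    rw [tv_apply, tv_apply, hφ, zero_smul, add_zero] at h2
    by_contra hne
    have h3 := congrArg φ h2
    rw [map_smul, map_add, map_smul, hφ, smul_zero, add_zero, smul_eq_mul] at h3
    have hζ1 : ζ = 1 := by
      have : (1 - ζ) * φ (h w) = 0 := by rw [sub_mul, one_mul, ← h3, sub_self]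
      rcases mul_eq_zero.1 this with h | h
      · exact (sub_eq_zero.1 h).symm
      · exact (hne h).elim
    rw [hζ1, one_smul] at h2
    have h4 : φ (h w) • w = 0 := by
      have := h2.symm
      rwa [add_eq_left] at this
    rcases smul_eq_zero.1 h4 with h | h
    · exact hne h
    · exact hw h
  have h2 : ∀ w : V, ∃ c : F, h w = c • w := by
    intro w
    have : h w ∈ Submodule.span F {w} := by
      by_contra hn
      obtain ⟨φ, hφ1, hφ2⟩ := Submodule.exists_dual_map_eq_bot_of_notMem (p := Submodule.span F {w}) hn inferInstance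
      apply hφ1
      apply h1
      have h3 : φ w ∈ (Submodule.span F {w}).map φ := ⟨w, Submodule.mem_span_singleton_self w, rfl⟩
      rw [hφ2] at h3
      exact (Submodule.mem_bot F).1 h3
    obtain ⟨c, hc⟩ := Submodule.mem_span_singleton.1 this
    exact ⟨c, hc.symm⟩
  choose c hcw using h2
  -- independent vectors have the same coefficient
  have h3 : ∀ u w : V, (∀ a : F, w ≠ a • u) → u ≠ 0 → c u = c w := by
    intro u w huw hu
    have h4 := hcw (u + w)
    rw [map_add, hcw u, hcw w, smul_add] at h4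
    have h5 : (c u - c (u + w)) • u = (c (u + w) - c w) • w := by
      rw [sub_smul, sub_smul, sub_eq_sub_iff_add_eq_add, h4]
      abel
    have h6 : c (u + w) - c w = 0 := by
      by_contra hne
      apply huw ((c (u + w) - c w)⁻¹ * (c u - c (u + w)))
      rw [mul_smul, h5, smul_smul, inv_mul_cancel₀ hne, one_smul]
    rw [h6, zero_smul] at h5
    rcases smul_eq_zero.1 h5 with h | h
    · rw [sub_eq_zero.1 h, sub_eq_zero.1 h6]
    · exact (hu h).elim
  have hnt : Nontrivial V := by
    apply Module.nontrivial_of_finrank_pos (R := F)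
    omega
  obtain ⟨u, hu⟩ := exists_ne (0 : V)
  have h4 : ∀ u : V, ∃ w : V, ∀ a : F, w ≠ a • u := by
    intro u
    by_contra hcon
    push Not at hcon
    have h5 : finrank F V ≤ 1 := finrank_le_one u fun w => by
      obtain ⟨a, ha⟩ := hcon w
      exact ⟨a, ha.symm⟩
    omega
  obtain ⟨w, hw⟩ := h4 u
  have hw0 : w ≠ 0 := fun h => hw 0 (by rw [h, zero_smul])
  have huw : ∀ a : F, u ≠ a • w := by
    intro a ha
    by_cases h0 : a = 0
    · rw [h0, zero_smul] at ha; exact hu ha
    · apply hw a⁻¹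
      rw [ha, smul_smul, inv_mul_cancel₀ h0, one_smul]
  refine ⟨c u, ?_, ?_⟩
  · intro h0
    have := hcw u
    rw [h0, zero_smul] at this
    exact hu (h.injective (this.trans (map_zero h).symm))
  · intro v
    by_cases hv : v = 0
    · rw [hv, map_zero, smul_zero]
    by_cases hvu : ∀ a : F, v ≠ a • u
    · rw [h3 u v hvu hu]; exact hcw v
    · push Not at hvu
      obtain ⟨a, ha⟩ := hvu
      have hvw : ∀ b : F, v ≠ b • w := by
        intro b hb
        have ha0 : a ≠ 0 := by rintro rfl; rw [zero_smul] at ha; exact hv ha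
        apply huw (a⁻¹ * b)
        rw [mul_smul, ← hb, ha, smul_smul, inv_mul_cancel₀ ha0, one_smul]
      rw [h3 u w hw hu, h3 w v hvw hw0]
      exact hcw v

end scj

section lifts

variable {F V G Ω : Type} [Field F] [AddCommGroup V] [Module F V] [Group G] [MulAction G Ω]
  {κ : SLV F V →* G}

theorem lifts_mul [Module.Finite F V] {x y : G} {f g : V ≃+ V} {τ : F ≃+* F} (hx : Lifts κ x f)
    (hy : Lifts κ y g) (hg : SL τ g) : Lifts κ (x * y) (g.trans f) := by
  intro s s' hs
  have h1 := hy s (scj hg s) fun v => scj_apply hg s v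
  have h2 := hx (scj hg s) s' (fun v => by
    obtain ⟨w, rfl⟩ := g.surjective v
    rw [scj_apply]
    exact hs w)
  rw [← h2, ← h1]
  group

theorem lifts_inv {x : G} {f : V ≃+ V} (hx : Lifts κ x f) : Lifts κ x⁻¹ f.symm := by
  intro s s' hs
  have h1 := hx s' s (fun v => by
    apply f.symm.injective
    rw [← hs, f.symm_apply_apply, f.symm_apply_apply])
  rw [← h1]
  group

theorem lifts_refl : Lifts κ (1 : G) (AddEquiv.refl V) := by
  intro s s' hs
  have : s' = s := SLV.ext fun v => hs v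
  rw [this]
  group

/-- multiplication of the lift by a scalar -/
theorem lifts_smul {x : G} {f f' : V ≃+ V} {c : F} (hc : c ≠ 0) (h : ∀ v, f' v = c • f v) (hx : Lifts κ x f) :
    Lifts κ x f' := by
  intro s s' hs
  apply hx s s'
  intro v
  have h1 := hs v
  rw [h, h, map_smul] at h1
  exact smul_right_injective V hc h1

theorem lift_scalar [Module.Finite F V] (hd : 2 ≤ finrank F V) {N : Subgroup G} (hF : Frame Ω N κ)
    {h : V ≃+ V} {σ : F ≃+* F} (hh : SL σ h) (hl : Lifts κ 1 h) : ∃ c : F, c ≠ 0 ∧ ∀ v, h v = c • v := by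
  apply scalar_of_comm hd hh
  intro s
  have h1 := hl s (scj hh s) fun v => scj_apply hh s v
  have h2 : κ (s⁻¹ * scj hh s) = 1 := by
    rw [map_mul, ← h1, map_inv]
    group
  obtain ⟨c, hc⟩ := (hF.ker _).1 h2
  refine ⟨c, fun v => ?_⟩
  have h3 := hc (h v)
  rw [coe_mul_apply, scj_apply] at h3
  rw [← map_smul, ← h3, coe_apply_inv]

theorem lift_unique [Module.Finite F V] (hd : 2 ≤ finrank F V) {N : Subgroup G} (hF : Frame Ω N κ) {x : G}
    {f g : V ≃+ V} {σ τ : F ≃+* F} (hf : SL σ f) (hg : SL τ g) (hxf : Lifts κ x f) (hxg : Lifts κ x g) :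
    ∃ c : F, c ≠ 0 ∧ ∀ v, g v = c • f v := by
  have h1 : Lifts κ 1 (g.trans f.symm) := by
    have := lifts_mul (lifts_inv hxf) hxg hg
    rwa [inv_mul_cancel] at this
  obtain ⟨c, hc0, hc⟩ := lift_scalar hd hF (SL.trans hf.symm hg) h1
  refine ⟨σ c, (map_ne_zero σ).2 hc0, fun v => ?_⟩
  have h2 := congrArg f (hc v)
  rw [AddEquiv.trans_apply, f.apply_symm_apply, hf] at h2
  exact h2

end lifts

/-- a minimal cover of `Ω` by elements `x i` of pairwise different prime orders `r i` with semilinear lifts -/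
structure SemiCov (Ω : Type) {F V G ι : Type} [Field F] [AddCommGroup V] [Module F V] [Group G] [MulAction G Ω]
    (N : Subgroup G) (κ : SLV F V →* G) (x : ι → G) (r : ι → ℕ) (f : ι → V ≃+ V) (σ : ι → F ≃+* F) : Prop where
  fr : Frame Ω N κ
  pf : PF x r
  cov : Cov Ω x
  min : CovMin Ω x
  semi : ∀ i, SL (σ i) (f i)
  lift : ∀ i, Lifts κ (x i) (f i)

section basic

variable {F V G Ω ι : Type} [Field F] [AddCommGroup V] [Module F V] [Module.Finite F V] [Group G] [MulAction G Ω]
  {N : Subgroup G} {κ : SLV F V →* G} {x : ι → G} {r : ι → ℕ} {f : ι → V ≃+ V} {σ : ι → F ≃+* F}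

theorem SL.iterate {τ : F ≃+* F} {g : V ≃+ V} (h : SL τ g) (k : ℕ) (c : F) (v : V) :
    (g : V → V)^[k] (c • v) = (τ ^ k) c • (g : V → V)^[k] v := by
  induction k with
  | zero => simp
  | succ k ih =>
    rw [Function.iterate_succ_apply', Function.iterate_succ_apply', ih, h, pow_succ']
    rfl

theorem lifts_pow {y : G} {g : V ≃+ V} {τ : F ≃+* F} (hg : SL τ g) (hy : Lifts κ y g) (k : ℕ) :
    ∃ g' : V ≃+ V, (∀ v, g' v = (g : V → V)^[k] v) ∧ SL (τ ^ k) g' ∧ Lifts κ (y ^ k) g' := by
  induction k with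
  | zero =>
    refine ⟨AddEquiv.refl V, fun v => rfl, fun c v => rfl, ?_⟩
    rw [pow_zero]
    exact lifts_refl
  | succ k ih =>
    obtain ⟨g', h1, h2, h3⟩ := ih
    refine ⟨g'.trans g, fun v => ?_, ?_, ?_⟩
    · rw [AddEquiv.trans_apply, h1, Function.iterate_succ_apply']
    · intro c v
      rw [AddEquiv.trans_apply, AddEquiv.trans_apply, h2, hg, pow_succ']
      rfl
    · rw [pow_succ']
      exact lifts_mul hy h3 h2

/-- the `r`-th power of a lift is a scalar -/
theorem pow_scalar (hd : 2 ≤ finrank F V) (hF : Frame Ω N κ) {y : G} {k : ℕ} (hyk : y ^ k = 1) {g : V ≃+ V}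
    {τ : F ≃+* F} (hg : SL τ g) (hy : Lifts κ y g) :
    ∃ c : F, c ≠ 0 ∧ ∀ v, (g : V → V)^[k] v = c • v := by
  obtain ⟨g', h1, h2, h3⟩ := lifts_pow hg hy k
  rw [hyk] at h3
  obtain ⟨c, hc, h4⟩ := lift_scalar hd hF h2 h3
  exact ⟨c, hc, fun v => by rw [← h1, h4]⟩

/-- the field automorphism of a lift has order dividing the order of the element -/
theorem pow_sigma (hd : 2 ≤ finrank F V) (hF : Frame Ω N κ) {y : G} {k : ℕ} (hyk : y ^ k = 1) {g : V ≃+ V}
    {τ : F ≃+* F} (hg : SL τ g) (hy : Lifts κ y g) : τ ^ k = 1 := by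
  obtain ⟨c, hc, h⟩ := pow_scalar hd hF hyk hg hy
  have hnt : Nontrivial V := Module.nontrivial_of_finrank_pos (R := F) (by omega)
  obtain ⟨v, hv⟩ := exists_ne (0 : V)
  apply RingEquiv.ext
  intro a
  have h1 := SL.iterate hg k a v
  rw [h, h, smul_smul, smul_smul] at h1
  have h2 := smul_left_injective F hv h1
  rw [mul_comm c a] at h2
  exact (mul_right_cancel₀ hc h2).symm

/-- lifts of commuting elements commute up to a scalar -/
theorem comm_scalar (hd : 2 ≤ finrank F V) (hF : Frame Ω N κ) {y z : G} (hyz : y * z = z * y) {g h : V ≃+ V}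
    {τ ρ : F ≃+* F} (hg : SL τ g) (hh : SL ρ h) (hy : Lifts κ y g) (hz : Lifts κ z h) :
    ∃ c : F, c ≠ 0 ∧ ∀ v, h (g v) = c • g (h v) := by
  have h1 := lifts_mul hy hz hh
  have h2 := lifts_mul hz hy hg
  rw [← hyz] at h2
  exact lift_unique hd hF (SL.trans hg hh) (SL.trans hh hg) h1 h2

end basic

section lin

variable {F V G Ω ι : Type} [Field F] [AddCommGroup V] [Module F V] [Module.Finite F V] [Group G] [MulAction G Ω]
  {N : Subgroup G} {κ : SLV F V →* G} {x : ι → G} {r : ι → ℕ} {f : ι → V ≃+ V} {σ : ι → F ≃+* F}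

/-- a `1`-semilinear bijection as a linear one -/
noncomputable def toLin {τ : F ≃+* F} {g : V ≃+ V} (hg : SL τ g) (h1 : τ = 1) : V ≃ₗ[F] V :=
  { g with
    map_smul' := by
      intro c v
      subst h1
      exact hg c v }

theorem toLin_apply {τ : F ≃+* F} {g : V ≃+ V} (hg : SL τ g) (h1 : τ = 1) (v : V) : toLin hg h1 v = g v := rfl

theorem iterate_comm {A B : V → V} {c : F} (hA : ∀ (a : F) v, A (a • v) = a • A v)
    (h : ∀ v, B (A v) = c • A (B v)) (k : ℕ) (v : V) : B (A^[k] v) = c ^ k • A^[k] (B v) := by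
  induction k with
  | zero => simp
  | succ k ih =>
    rw [Function.iterate_succ_apply', Function.iterate_succ_apply', h, ih, hA, smul_smul, pow_succ']

/-- all lifts linear => `LinCov` -/
theorem SemiCov.linCov (hd : 2 ≤ finrank F V) (h : SemiCov Ω N κ x r f σ) (h1 : ∀ i, σ i = 1) :
    LinCov Ω N κ x r fun i => toLin (h.semi i) (h1 i) where
  fr := h.fr
  pf := h.pf
  cov := h.cov
  min := h.min
  lift i s := by
    have := h.lift i
    exact (lifts_lin (a := toLin (h.semi i) (h1 i))).1 this s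
  comm i j := by
    by_cases hij : i = j
    · subst hij; rfl
    have hnt : Nontrivial V := Module.nontrivial_of_finrank_pos (R := F) (by omega)
    obtain ⟨v, hv⟩ := exists_ne (0 : V)
    have hlin : ∀ i (a : F) v, f i (a • v) = a • f i v := by
      intro i a v
      have := h.semi i a v
      rw [h1] at this
      exact this
    obtain ⟨c, hc0, hc⟩ := comm_scalar hd h.fr (h.pf.comm i j) (h.semi i) (h.semi j) (h.lift i) (h.lift j)
    obtain ⟨ci, hci0, hci⟩ := pow_scalar hd h.fr (h.pf.pow i) (h.semi i) (h.lift i)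
    obtain ⟨cj', hcj0, hcj⟩ := pow_scalar hd h.fr (h.pf.pow j) (h.semi j) (h.lift j)
    have e1 : c ^ r i = 1 := by
      have h2 := iterate_comm (A := f i) (B := f j) (hlin i) hc (r i) v
      rw [hci, hci, hlin, smul_smul] at h2
      have h3 : f j v ≠ 0 := fun h => hv ((f j).injective (h.trans (map_zero _).symm))
      have h4 := smul_left_injective F h3 h2
      exact (mul_right_cancel₀ hci0 (by rw [one_mul]; exact h4)).symm
    have hc' : ∀ v, f i (f j v) = c⁻¹ • f j (f i v) := by
      intro v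
      rw [hc, smul_smul, inv_mul_cancel₀ hc0, one_smul]
    have e2 : c⁻¹ ^ r j = 1 := by
      have h2 := iterate_comm (A := f j) (B := f i) (hlin j) hc' (r j) v
      rw [hcj, hcj, hlin, smul_smul] at h2
      have h3 : f i v ≠ 0 := fun h => hv ((f i).injective (h.trans (map_zero _).symm))
      have h4 := smul_left_injective F h3 h2
      exact (mul_right_cancel₀ hcj0 (by rw [one_mul]; exact h4)).symm
    have e3 : c ^ r j = 1 := by rwa [inv_pow, inv_eq_one] at e2
    have hcop : Nat.Coprime (r i) (r j) := (Nat.coprime_primes (h.pf.prime i) (h.pf.prime j)).2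
      fun he => hij (h.pf.inj he)
    have hc1 : c = 1 := by
      have h5 : orderOf c ∣ Nat.gcd (r i) (r j) :=
        Nat.dvd_gcd (orderOf_dvd_of_pow_eq_one e1) (orderOf_dvd_of_pow_eq_one e3)
      rw [hcop] at h5
      exact orderOf_eq_one_iff.1 (Nat.dvd_one.1 h5)
    apply LinearEquiv.ext
    intro w
    change f i (f j w) = f j (f i w)
    rw [hc w, hc1, one_smul]

end lin

section field

variable {F V G Ω ι : Type} [Field F] [Finite F] [AddCommGroup V] [Module F V] [Module.Finite F V] [Group G]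
  [MulAction G Ω] {N : Subgroup G} {κ : SLV F V →* G} {x : ι → G} {r : ι → ℕ} {f : ι → V ≃+ V} {σ : ι → F ≃+* F}

/-- Hilbert 90 -/
theorem hilbert90 (τ : F ≃+* F) (k : ℕ) (hk : 0 < k) (hτ : orderOf τ = k) (μ : F)
    (hμ : ∏ i ∈ Finset.range k, (τ ^ i) μ = 1) : ∃ a : F, a ≠ 0 ∧ μ * τ a = a := by
  classical
  let m : ℕ → F := fun i => ∏ l ∈ Finset.range i, (τ ^ l) μ
  have hm : ∀ i, μ * τ (m i) = m (i + 1) := by
    intro i
    simp only [m]
    rw [map_prod, Finset.prod_range_succ' (fun l => (τ ^ l) μ) i, mul_comm]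
    congr 1
    apply Finset.prod_congr rfl
    intro l _
    rw [pow_succ']
    rfl
  have hex : ∃ c : F, ∑ i : Fin k, (τ ^ (i : ℕ)) c * m i ≠ 0 := by
    by_contra hcon
    push Not at hcon
    have h1 := sigma_indep τ k hτ (fun i => m i) hcon ⟨0, hk⟩
    simp [m] at h1
  obtain ⟨c, hc⟩ := hex
  refine ⟨_, hc, ?_⟩
  have hmk : m k = 1 := hμ
  have hτk : (τ ^ k) c = c := by
    rw [← hτ, pow_orderOf_eq_one]
    rfl
  have e1 : ∀ i : ℕ, μ * τ ((τ ^ i) c * m i) = (τ ^ (i + 1)) c * m (i + 1) := by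
    intro i
    rw [map_mul, ← hm i, pow_succ']
    change μ * (τ ((τ ^ i) c) * τ (m i)) = τ ((τ ^ i) c) * (μ * τ (m i))
    ring
  rw [Fin.sum_univ_eq_sum_range (fun i => (τ ^ i) c * m i) k, map_sum, Finset.mul_sum]
  rw [Finset.sum_congr rfl fun i _ => e1 i]
  have e2 := Finset.sum_range_succ' (fun i => (τ ^ i) c * m i) k
  have e3 := Finset.sum_range_succ (fun i => (τ ^ i) c * m i) k
  rw [e3] at e2
  have e4 : (τ ^ k) c * m k = (τ ^ 0) c * m 0 := by
    rw [hτk, hmk]
    simp [m]
  rw [e4] at e2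
  exact (add_right_cancel e2).symm

/-- scalar multiple of an additive bijection -/
noncomputable def scl (c : F) (hc : c ≠ 0) (g : V ≃+ V) : V ≃+ V :=
  g.trans (LinearEquiv.smulOfNeZero F V c hc).toAddEquiv

theorem scl_apply (c : F) (hc : c ≠ 0) (g : V ≃+ V) (v : V) : scl c hc g v = c • g v := rfl

theorem SL.scl {τ : F ≃+* F} {g : V ≃+ V} (hg : SL τ g) (c : F) (hc : c ≠ 0) : SL τ (scl c hc g) := by
  intro a v
  rw [scl_apply, scl_apply, hg, smul_comm]

/-- some lift is not linear: it may be taken standard, and commuting with all the other lifts -/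
theorem SemiCov.field (hd : 2 ≤ finrank F V) (h : SemiCov Ω N κ x r f σ) {i₀ : ι} (h0 : σ i₀ ≠ 1) :
    orderOf (σ i₀) = r i₀ ∧ ∃ f' : ι → V ≃+ V, SemiCov Ω N κ x r f' σ ∧
      (∃ b : Basis (Fin (finrank F V)) F V, ∀ k, f' i₀ (b k) = b k) ∧
      (∀ v, (f' i₀ : V → V)^[r i₀] v = v) ∧ ∀ j v, f' j (f' i₀ v) = f' i₀ (f' j v) := by
  classical
  have hord : orderOf (σ i₀) = r i₀ := by
    have := Fact.mk (h.pf.prime i₀)
    exact orderOf_eq_prime (pow_sigma hd h.fr (h.pf.pow i₀) (h.semi i₀) (h.lift i₀)) h0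
  refine ⟨hord, ?_⟩
  obtain ⟨c, hc0, hc⟩ := pow_scalar hd h.fr (h.pf.pow i₀) (h.semi i₀) (h.lift i₀)
  obtain ⟨a, ha0, b, hb⟩ := descent (σ i₀) (r i₀) (h.pf.prime i₀).pos hord (f i₀) (h.semi i₀) c hc
  -- the standard lift
  let g : V ≃+ V := scl a ha0 (f i₀)
  have hgs : SL (σ i₀) g := SL.scl (h.semi i₀) a ha0
  have hgl : Lifts κ (x i₀) g := lifts_smul ha0 (fun v => rfl) (h.lift i₀)
  have hgb : ∀ k, g (b k) = b k := hb
  have hgr : ∀ v, (g : V → V)^[r i₀] v = v := by
    obtain ⟨c', hc'0, hc'⟩ := pow_scalar hd h.fr (h.pf.pow i₀) hgs hgl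
    have hpos : 0 < finrank F V := by omega
    have h1 : (g : V → V)^[r i₀] (b ⟨0, hpos⟩) = b ⟨0, hpos⟩ := Function.iterate_fixed (hgb _) _
    rw [hc'] at h1
    have h2 : c' = 1 := by
      have h3 : c' • b ⟨0, hpos⟩ = (1 : F) • b ⟨0, hpos⟩ := by rw [h1, one_smul]
      exact smul_left_injective F (b.ne_zero _) h3
    intro v
    rw [hc', h2, one_smul]
  -- the others
  have hj : ∀ j, ∃ a : F, ∃ ha : a ≠ 0, ∀ v, scl a ha (f j) (g v) = g (scl a ha (f j) v) := by
    intro j
    obtain ⟨d, hd0, hdc⟩ := comm_scalar hd h.fr (h.pf.comm j i₀) (h.semi j) hgs (h.lift j) hgl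
    -- g (f j v) = d • f j (g v)
    have hit : ∀ k v, (g : V → V)^[k] (f j v) = (∏ i ∈ Finset.range k, ((σ i₀) ^ i) d) • f j ((g : V → V)^[k] v) := by
      intro k
      induction k with
      | zero => intro v; simp
      | succ k ih =>
        intro v
        rw [Function.iterate_succ_apply', Function.iterate_succ_apply', ih, hgs, hdc, smul_smul]
        congr 1
        rw [map_prod, Finset.prod_range_succ' (fun l => ((σ i₀) ^ l) d) k]
        congr 1
        apply Finset.prod_congr rfl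
        intro l _
        rw [pow_succ']
        rfl
    have hnorm : ∏ i ∈ Finset.range (r i₀), ((σ i₀) ^ i) d = 1 := by
      have hpos : 0 < finrank F V := by omega
      have h1 := hit (r i₀) (b ⟨0, hpos⟩)
      rw [hgr, hgr] at h1
      have h3 : f j (b ⟨0, hpos⟩) ≠ 0 := fun h => b.ne_zero _ ((f j).injective (h.trans (map_zero _).symm))
      exact (smul_left_injective F h3 ((one_smul F _).trans h1)).symm
    obtain ⟨a, ha, hda⟩ := hilbert90 (σ i₀) (r i₀) (h.pf.prime i₀).pos hord d hnorm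
    -- want: a • f j (g v) = g (a • f j v) = σ a • d • f j (g v)
    refine ⟨a, ha, fun v => ?_⟩
    change a • f j (g v) = g (a • f j v)
    rw [hgs, hdc, smul_smul, mul_comm, hda]
  choose A hA0 hA using hj
  refine ⟨fun j => if j = i₀ then g else scl (A j) (hA0 j) (f j), ?_, ?_, ?_, ?_⟩
  · refine ⟨h.fr, h.pf, h.cov, h.min, ?_, ?_⟩
    · intro j
      by_cases hj : j = i₀
      · subst hj
        simp only [if_true]
        exact hgs
      · simp only [if_neg hj]
        exact SL.scl (h.semi j) _ _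
    · intro j
      by_cases hj : j = i₀
      · subst hj
        simp only [if_true]
        exact hgl
      · simp only [if_neg hj]
        exact lifts_smul (hA0 j) (fun v => rfl) (h.lift j)
  · refine ⟨b, fun k => ?_⟩
    simp only [if_true]
    exact hgb k
  · simp only [if_true]
    exact hgr
  · intro j v
    by_cases hj : j = i₀
    · subst hj; rfl
    · simp only [if_neg hj, if_true]
      exact hA j v

end field

/-- passage from `G`-sets to subgroups of `MulAut S`, one automorphism `g` -/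
theorem rce_of_set {S : Type} [Group S] [Finite S] (hS : IsSimpleGroup S)
    (hSn : ¬ IsMulCommutative S) (g : MulAut S)
    (h : ∀ (G : Type) [Group G] [Finite G] (Ω : Type) [Finite Ω] [Nonempty Ω] [MulAction G Ω]
      (N : Subgroup G) (_ : Env G Ω N) (e : N ≃* S) (y : G),
      (∀ m m' : N, (m' : G) = y * m * y⁻¹ → e m' = g (e m)) → ∃ ω : Ω, RegPt y ω) : RCe S g := by
  classical
  intro H hH
  have hZ : Subgroup.center S = ⊥ := by
    rcases hS.eq_bot_or_eq_top_of_normal (Subgroup.center S) inferInstance with h | h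
    · exact h
    · exfalso
      apply hSn
      constructor
      constructor
      intro s t
      have : t ∈ Subgroup.center S := by rw [h]; trivial
      exact Subgroup.mem_center_iff.1 this s
  have hinj : Function.Injective (MulAut.conj : S →* MulAut S) := by
    rw [injective_iff_map_eq_one]
    intro s hs
    have : s ∈ Subgroup.center S := by
      rw [Subgroup.mem_center_iff]
      intro u
      have h1 := congrArg (fun f : MulAut S => f u) hs
      simp only [MulAut.conj_apply, MulAut.one_apply] at h1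
      calc u * s = (s * u * s⁻¹) * s := by rw [h1]
        _ = s * u := by group
    rw [hZ] at this
    exact Subgroup.mem_bot.1 this
  let I : Subgroup (MulAut S) := (MulAut.conj : S →* MulAut S).range
  have hconj : ∀ (a : MulAut S) (s : S), a * MulAut.conj s * a⁻¹ = MulAut.conj (a s) := by
    intro a s
    ext t
    simp [MulAut.conj_apply]
  have hInorm : I.Normal := by
    constructor
    rintro _ ⟨s, rfl⟩ a
    exact ⟨a s, (hconj a s).symm⟩
  let G₀ : Subgroup (MulAut S) := I ⊔ Subgroup.zpowers g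
  have hIG : I ≤ G₀ := le_sup_left
  have hgG : g ∈ G₀ := (le_sup_right : Subgroup.zpowers g ≤ G₀) (Subgroup.mem_zpowers g)
  let H₀ : Subgroup G₀ := H.subgroupOf G₀
  let N : Subgroup G₀ := I.subgroupOf G₀
  have hNn : N.Normal := Subgroup.normal_subgroupOf
  let eN : N ≃* S := ((Subgroup.subgroupOfEquivOfLe hIG).trans
    (MonoidHom.ofInjective hinj).symm)
  have heN : ∀ m : N, MulAut.conj (eN m) = ((m : G₀) : MulAut S) := by
    intro m
    have h1 : (MonoidHom.ofInjective hinj) (eN m) = Subgroup.subgroupOfEquivOfLe hIG m := by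
      simp [eN]
    have h2 := congrArg Subtype.val h1
    exact h2
  have hEnv : Env G₀ (G₀ ⧸ H₀) N := by
    refine ⟨hNn, isSimple_cgr0 eN.symm hS, ?_, ?_, ?_⟩
    · intro hc
      apply hSn
      constructor; constructor
      intro a b
      apply eN.symm.injective
      rw [map_mul, map_mul]
      exact hc.is_comm.comm _ _
    · rw [eq_bot_iff]
      intro a ha
      rw [Subgroup.mem_centralizer_iff] at ha
      rw [Subgroup.mem_bot]
      apply Subtype.ext
      apply MulEquiv.ext
      intro s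
      apply hinj
      have h1 := ha ⟨MulAut.conj s, hIG ⟨s, rfl⟩⟩ (by
        show (MulAut.conj s : MulAut S) ∈ I
        exact ⟨s, rfl⟩)
      have h2 := congrArg Subtype.val h1
      have h3 : MulAut.conj s * (a : MulAut S) = (a : MulAut S) * MulAut.conj s := h2
      rw [← hconj, ← h3]
      simp
    · intro ω hle
      obtain ⟨k, rfl⟩ := QuotientGroup.mk_surjective ω
      apply hH
      rintro _ ⟨s, rfl⟩
      have h1 : k * ⟨MulAut.conj s, hIG ⟨s, rfl⟩⟩ * k⁻¹ ∈ N := hNn.conj_mem _ (by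
        show (MulAut.conj s : MulAut S) ∈ I
        exact ⟨s, rfl⟩) k
      have h2 := hle h1
      rw [mem_stabilizer_iff] at h2
      have h3 : (((k * ⟨MulAut.conj s, hIG ⟨s, rfl⟩⟩ * k⁻¹ * k : G₀)) : G₀ ⧸ H₀) = (k : G₀ ⧸ H₀) := h2
      rw [eq_comm, QuotientGroup.eq] at h3
      have h4 : k⁻¹ * (k * ⟨MulAut.conj s, hIG ⟨s, rfl⟩⟩ * k⁻¹ * k)
          = (⟨MulAut.conj s, hIG ⟨s, rfl⟩⟩ : G₀) := by group
      rw [h4] at h3
      exact h3
  let gG : G₀ := ⟨g, hgG⟩
  obtain ⟨ω, hω⟩ := h G₀ (G₀ ⧸ H₀) N hEnv eN gG (by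
    intro m m' hm
    apply hinj
    rw [heN, hm, ← hconj, heN]
    rfl)
  obtain ⟨k, rfl⟩ := QuotientGroup.mk_surjective ω
  have hk : ∃ (i : ℤ) (s : S), k.1 = g ^ i * ((MulAut.conj s : MulAut S))⁻¹ :=
    sup_form g k.1 k.2
  obtain ⟨i, s, hks⟩ := hk
  refine ⟨s, ?_⟩
  intro z hz hzH
  obtain ⟨j, rfl⟩ := Subgroup.mem_zpowers_iff.1 hz
  have hpow : ((gG ^ j : G₀) : MulAut S) = g ^ j := by
    rw [Subgroup.coe_zpow]
  have hmem : k⁻¹ * (gG ^ j * k) ∈ H₀ := by
    rw [Subgroup.mem_subgroupOf]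
    have e0 : ((k⁻¹ * (gG ^ j * k) : G₀) : MulAut S)
        = (k : MulAut S)⁻¹ * (g ^ j * (k : MulAut S)) := by
      rw [Subgroup.coe_mul, Subgroup.coe_mul, hpow, Subgroup.coe_inv]
    rw [e0, hks]
    have e : (g ^ i * (MulAut.conj s)⁻¹)⁻¹ * (g ^ j * (g ^ i * (MulAut.conj s)⁻¹))
        = MulAut.conj s * (g ^ (-i) * g ^ j * g ^ i) * (MulAut.conj s)⁻¹ := by
      rw [zpow_neg, mul_inv_rev, inv_inv]; simp only [mul_assoc]
    rw [e, ← zpow_add, ← zpow_add]
    have e2 : -i + j + i = j := by ring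
    rw [e2]
    exact hzH
  have hfix : (gG ^ j) • (k : G₀ ⧸ H₀) = (k : G₀ ⧸ H₀) := by
    have : ((gG ^ j * k : G₀) : G₀ ⧸ H₀) = (k : G₀ ⧸ H₀) :=
      (QuotientGroup.eq.2 hmem).symm
    exact this
  have h1 := hω (gG ^ j) (Subgroup.zpow_mem_zpowers gG j) hfix
  rw [← hpow, h1]
  rfl

section gam

variable {F : Type} [Field F] {n : ℕ}

/-- `f` lifts the automorphism `β` of `PSL_n(F)` -/
def LiftAut (β : MulAut (Matrix.ProjectiveSpecialLinearGroup (Fin n) F)) (f : (Fin n → F) ≃+ (Fin n → F)) : Prop :=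
  ∀ S S' : Matrix.SpecialLinearGroup (Fin n) F, (∀ v, S'.1.mulVec (f v) = f (S.1.mulVec v)) →
    β (QuotientGroup.mk S) = QuotientGroup.mk S'

theorem liftAut_of_induced {β : MulAut (Matrix.ProjectiveSpecialLinearGroup (Fin n) F)} {A : GL (Fin n) F}
    {σ : F ≃+* F} (h : Cfsg.IsInducedBySemilinearPSL A σ β) : LiftAut β (semiMap A σ) := by
  intro S S' hss
  apply h
  have h1 : ∀ v, S'.1.mulVec ((A : Matrix (Fin n) (Fin n) F).mulVec v) =
      (A : Matrix (Fin n) (Fin n) F).mulVec ((S.1.map σ).mulVec v) := by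
    intro v
    have h2 := hss (fun i => σ.symm (v i))
    simp only [semiMap_apply, RingEquiv.apply_symm_apply] at h2
    rw [h2]
    congr 1
    funext i
    simp only [Matrix.mulVec, dotProduct, Matrix.map_apply, map_sum, map_mul, RingEquiv.apply_symm_apply]
  have h3 : S'.1 * (A : Matrix (Fin n) (Fin n) F) = (A : Matrix (Fin n) (Fin n) F) * S.1.map σ := by
    apply Matrix.toLin'.injective
    apply LinearMap.ext
    intro v
    rw [Matrix.toLin'_apply, Matrix.toLin'_apply, ← Matrix.mulVec_mulVec, ← Matrix.mulVec_mulVec, h1]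
  rw [← h3, mul_assoc, ← Units.val_mul, mul_inv_cancel, Units.val_one, mul_one]

theorem exists_conj {σ : F ≃+* F} {f : (Fin n → F) ≃+ (Fin n → F)} (h : SL σ f)
    (S : Matrix.SpecialLinearGroup (Fin n) F) :
    ∃ S' : Matrix.SpecialLinearGroup (Fin n) F, ∀ v, S'.1.mulVec (f v) = f (S.1.mulVec v) := by
  obtain ⟨S', hS'⟩ := (slE (Pi.basisFun F (Fin n))).surjective (scj h (slE (Pi.basisFun F (Fin n)) S))
  refine ⟨S', fun v => ?_⟩
  rw [← slE_std, hS', scj_apply, slE_std]

theorem liftAut_mul {β γ : MulAut (Matrix.ProjectiveSpecialLinearGroup (Fin n) F)}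
    {f g : (Fin n → F) ≃+ (Fin n → F)} {τ : F ≃+* F} (hβ : LiftAut β f) (hγ : LiftAut γ g) (hg : SL τ g) :
    LiftAut (β * γ) (g.trans f) := by
  intro S S' hss
  obtain ⟨T, hT⟩ := exists_conj hg S
  rw [MulAut.mul_apply, hγ S T hT]
  apply hβ
  intro v
  obtain ⟨w, rfl⟩ := g.surjective v
  rw [hT]
  exact hss w

theorem liftAut_inv {β : MulAut (Matrix.ProjectiveSpecialLinearGroup (Fin n) F)}
    {f : (Fin n → F) ≃+ (Fin n → F)} (hβ : LiftAut β f) : LiftAut β⁻¹ f.symm := by
  intro S S' hss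
  apply β.injective
  rw [MulAut.apply_inv_self]
  symm
  apply hβ
  intro v
  apply f.symm.injective
  rw [← hss, f.symm_apply_apply, f.symm_apply_apply]

theorem liftAut_one : LiftAut (1 : MulAut (Matrix.ProjectiveSpecialLinearGroup (Fin n) F))
    (AddEquiv.refl (Fin n → F)) := by
  intro S S' hss
  have : S' = S := by
    apply Subtype.ext
    apply Matrix.toLin'.injective
    apply LinearMap.ext
    intro v
    rw [Matrix.toLin'_apply, Matrix.toLin'_apply]
    exact hss v
  rw [this]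
  rfl

theorem exists_liftAut {β : MulAut (Matrix.ProjectiveSpecialLinearGroup (Fin n) F)}
    (hβ : β ∈ Cfsg.gammaPSL n F) :
    ∃ (f : (Fin n → F) ≃+ (Fin n → F)) (σ : F ≃+* F), SL σ f ∧ LiftAut β f := by
  unfold Cfsg.gammaPSL Cfsg.autSubgroupOf at hβ
  induction hβ using Subgroup.closure_induction with
  | mem β h =>
    obtain ⟨A, σ, h⟩ := h
    exact ⟨semiMap A σ, σ, semiMap_smul A σ, liftAut_of_induced h⟩
  | one => exact ⟨AddEquiv.refl _, 1, fun c v => rfl, liftAut_one⟩
  | mul β γ _ _ h1 h2 =>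
    obtain ⟨f, σ, hf, hβ⟩ := h1
    obtain ⟨g, τ, hg, hγ⟩ := h2
    exact ⟨g.trans f, τ.trans σ, SL.trans hf hg, liftAut_mul hβ hγ hg⟩
  | inv β _ h1 =>
    obtain ⟨f, σ, hf, hβ⟩ := h1
    exact ⟨f.symm, σ.symm, hf.symm, liftAut_inv hβ⟩

theorem lifts_of_liftAut {G : Type} [Group G] {N : Subgroup G}
    (e : N ≃* Matrix.ProjectiveSpecialLinearGroup (Fin n) F) {y : G}
    {β : MulAut (Matrix.ProjectiveSpecialLinearGroup (Fin n) F)}
    (hN : N.Normal) (hy : ∀ m m' : N, (m' : G) = y * m * y⁻¹ → e m' = β (e m)) {f : (Fin n → F) ≃+ (Fin n → F)}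
    (hf : LiftAut β f) : Lifts (kap e) y f := by
  intro s s' hss
  obtain ⟨S, rfl⟩ := (slE (Pi.basisFun F (Fin n))).surjective s
  obtain ⟨S', rfl⟩ := (slE (Pi.basisFun F (Fin n))).surjective s'
  rw [kap_slE, kap_slE]
  have h1 : β (QuotientGroup.mk S) = QuotientGroup.mk S' := by
    apply hf
    intro v
    rw [← slE_std, ← slE_std]
    exact hss v
  let m : N := e.symm (QuotientGroup.mk S)
  have h2 := hy m ⟨y * m * y⁻¹, hN.conj_mem _ m.2 y⟩ rfl
  rw [e.apply_symm_apply, h1] at h2
  rw [← h2, e.symm_apply_apply]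

end gam

/-- **(RED)** for row A -/
theorem red_A {F : Type} [Field F] [Fintype F] {n : ℕ}
    (hS : IsSimpleGroup (Matrix.ProjectiveSpecialLinearGroup (Fin n) F))
    (hSn : ¬ IsMulCommutative (Matrix.ProjectiveSpecialLinearGroup (Fin n) F))
    (hNo : ∀ (G : Type) [Group G] [Finite G] (Ω : Type) [Finite Ω] [Nonempty Ω] [MulAction G Ω]
      (N : Subgroup G) (_ : N ≃* Matrix.ProjectiveSpecialLinearGroup (Fin n) F)
      (κ : SLV F (Fin n → F) →* G) (ι : Type) [Finite ι] (x : ι → G) (r : ι → ℕ)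
      (f : ι → (Fin n → F) ≃+ (Fin n → F)) (σ : ι → F ≃+* F), SemiCov Ω N κ x r f σ → False)
    {g : MulAut (Matrix.ProjectiveSpecialLinearGroup (Fin n) F)} (hg : g ∈ Cfsg.gammaPSL n F) :
    RCe (Matrix.ProjectiveSpecialLinearGroup (Fin n) F) g := by
  have hfin : Finite (Matrix.ProjectiveSpecialLinearGroup (Fin n) F) :=
    Quotient.finite (QuotientGroup.leftRel _)
  apply rce_of_set hS hSn
  intro G _ _ Ω _ _ _ N hE e y hy
  by_contra hno
  push Not at hno
  obtain ⟨ι, hι, x, r, h1, h2, h3, h4⟩ := exists_cover hno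
  -- every member is a power of `y`
  have key : ∀ i, ∃ (f : (Fin n → F) ≃+ (Fin n → F)) (σ : F ≃+* F), SL σ f ∧ Lifts (kap e) (x i) f := by
    intro i
    obtain ⟨k, hk⟩ := Subgroup.mem_zpowers_iff.1 (h3 i)
    -- conjugation by `y ^ k` corresponds to `g ^ k`
    have hpow : ∀ k : ℤ, ∀ m m' : N, (m' : G) = y ^ k * m * (y ^ k)⁻¹ → e m' = (g ^ k) (e m) := by
      have hnat : ∀ k : ℕ, ∀ m m' : N, (m' : G) = y ^ k * m * (y ^ k)⁻¹ → e m' = (g ^ k) (e m) := by
        intro k
        induction k with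
        | zero =>
          intro m m' hm
          have : m' = m := Subtype.ext (by rw [hm]; simp)
          rw [this, pow_zero]
          rfl
        | succ k ih =>
          intro m m' hm
          let m1 : N := ⟨y ^ k * m * (y ^ k)⁻¹, hE.norm.conj_mem _ m.2 _⟩
          have e1 := ih m m1 rfl
          have e2 := hy m1 m' (by rw [hm, pow_succ']; simp only [m1]; group)
          rw [e2, e1, pow_succ']
          rfl
      intro k
      obtain ⟨j, rfl | rfl⟩ := Int.eq_nat_or_neg k
      · simpa using hnat j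
      · intro m m' hm
        have e1 := hnat j m' m (by
          rw [hm, zpow_neg, zpow_natCast]
          group)
        rw [e1, zpow_neg, zpow_natCast, MulAut.inv_apply_self]
    obtain ⟨f, σ, hf, hl⟩ := exists_liftAut (Subgroup.zpow_mem _ hg k)
    refine ⟨f, σ, hf, ?_⟩
    rw [← hk]
    exact lifts_of_liftAut e hE.norm (hpow k) hl
  choose f σ hf hl using key
  exact hNo G Ω N e (kap e) ι x r f σ ⟨frame_of_iso hE e, h1, h2, h4, hf, hl⟩

section gam

variable {F : Type} [Field F] {n : ℕ}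

theorem gamma_of_diag {δ : MulAut (Matrix.ProjectiveSpecialLinearGroup (Fin n) F)}
    (h : Cfsg.IsInnerDiagonalAutPSL δ) : δ ∈ Cfsg.gammaPSL n F := by
  obtain ⟨A, hA⟩ := h
  apply Subgroup.subset_closure
  refine ⟨A, RingEquiv.refl F, ?_⟩
  intro s s' hs
  apply hA
  rw [hs]
  congr 2

theorem gamma_of_field {φ : MulAut (Matrix.ProjectiveSpecialLinearGroup (Fin n) F)} {σ : F ≃+* F}
    (h : Cfsg.IsStdFieldAutPSL σ φ) : φ ∈ Cfsg.gammaPSL n F := by
  apply Subgroup.subset_closure
  refine ⟨1, σ, ?_⟩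
  intro s s' hs
  apply h
  rw [hs, inv_one, Units.val_one, one_mul, mul_one]

/-- the inverse-transpose matrix -/
noncomputable def itm (S : Matrix.SpecialLinearGroup (Fin n) F) : Matrix.SpecialLinearGroup (Fin n) F :=
  ⟨((S⁻¹ : Matrix.SpecialLinearGroup (Fin n) F) : Matrix (Fin n) (Fin n) F).transpose, by
    rw [Matrix.det_transpose, (S⁻¹ : Matrix.SpecialLinearGroup (Fin n) F).2]⟩

theorem itm_itm (S : Matrix.SpecialLinearGroup (Fin n) F) : itm (itm S) = S := by
  have h1 : (itm S)⁻¹ = ⟨S.1.transpose, by rw [Matrix.det_transpose, S.2]⟩ := by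
    apply inv_eq_of_mul_eq_one_right
    apply Subtype.ext
    change ((S⁻¹ : Matrix.SpecialLinearGroup (Fin n) F) : Matrix (Fin n) (Fin n) F).transpose * S.1.transpose = 1
    rw [← Matrix.transpose_mul]
    have h3 := congrArg Subtype.val (mul_inv_cancel S)
    have h4 : S.1 * ((S⁻¹ : Matrix.SpecialLinearGroup (Fin n) F) : Matrix (Fin n) (Fin n) F) = 1 := h3
    rw [h4, Matrix.transpose_one]
  apply Subtype.ext
  change (((itm S)⁻¹ : Matrix.SpecialLinearGroup (Fin n) F) : Matrix (Fin n) (Fin n) F).transpose = S.1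
  rw [h1]
  change S.1.transpose.transpose = S.1
  rw [Matrix.transpose_transpose]

theorem it_apply {γ : MulAut (Matrix.ProjectiveSpecialLinearGroup (Fin n) F)}
    (h : Cfsg.IsInverseTransposeAutPSL γ) (S : Matrix.SpecialLinearGroup (Fin n) F) :
    γ (QuotientGroup.mk S) = QuotientGroup.mk (itm S) := h S (itm S) rfl

theorem it_unique {γ γ' : MulAut (Matrix.ProjectiveSpecialLinearGroup (Fin n) F)}
    (h : Cfsg.IsInverseTransposeAutPSL γ) (h' : Cfsg.IsInverseTransposeAutPSL γ') : γ = γ' := by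
  apply MulEquiv.ext
  intro t
  obtain ⟨S, rfl⟩ := QuotientGroup.mk_surjective t
  rw [it_apply h, it_apply h']

theorem it_sq {γ : MulAut (Matrix.ProjectiveSpecialLinearGroup (Fin n) F)}
    (h : Cfsg.IsInverseTransposeAutPSL γ) : γ * γ = 1 := by
  apply MulEquiv.ext
  intro t
  obtain ⟨S, rfl⟩ := QuotientGroup.mk_surjective t
  rw [MulAut.mul_apply, it_apply h, it_apply h, itm_itm]
  rfl

theorem it_conj {γ : MulAut (Matrix.ProjectiveSpecialLinearGroup (Fin n) F)}
    (h : Cfsg.IsInverseTransposeAutPSL γ) {β : MulAut (Matrix.ProjectiveSpecialLinearGroup (Fin n) F)}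
    (hβ : β ∈ Cfsg.gammaPSL n F) : γ * β * γ ∈ Cfsg.gammaPSL n F := by
  have hinv : γ⁻¹ = γ := inv_eq_of_mul_eq_one_left (it_sq h)
  have hβ' := hβ
  unfold Cfsg.gammaPSL Cfsg.autSubgroupOf at hβ'
  induction hβ' using Subgroup.closure_induction with
  | mem β h1 =>
    obtain ⟨A, σ, hA⟩ := h1
    apply Subgroup.subset_closure
    -- the matrix `A⁻ᵀ`
    let B : GL (Fin n) F := ⟨((A⁻¹ : GL (Fin n) F) : Matrix (Fin n) (Fin n) F).transpose,
      (A : Matrix (Fin n) (Fin n) F).transpose, by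
        rw [← Matrix.transpose_mul, ← Units.val_mul, mul_inv_cancel, Units.val_one, Matrix.transpose_one], by
        rw [← Matrix.transpose_mul, ← Units.val_mul, inv_mul_cancel, Units.val_one, Matrix.transpose_one]⟩
    refine ⟨B, σ, ?_⟩
    intro S S' hS
    change γ (β (γ (QuotientGroup.mk S))) = _
    rw [it_apply h]
    -- the matrix `A σ(S⁻ᵀ) A⁻¹`
    have hT : (itm S' : Matrix.SpecialLinearGroup (Fin n) F).1 =
        (A : Matrix (Fin n) (Fin n) F) * (itm S).1.map σ * ((A⁻¹ : GL (Fin n) F) : Matrix (Fin n) (Fin n) F) := by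
      -- `itm S'` is the inverse transpose of `S'`
      have e1 : (itm S').1.transpose * S'.1 = 1 := by
        change ((S'⁻¹ : Matrix.SpecialLinearGroup (Fin n) F) : Matrix (Fin n) (Fin n) F).transpose.transpose * S'.1 = 1
        rw [Matrix.transpose_transpose]
        exact congrArg Subtype.val (inv_mul_cancel S')
      have e2 : (itm S).1.transpose * S.1 = 1 := by
        change ((S⁻¹ : Matrix.SpecialLinearGroup (Fin n) F) : Matrix (Fin n) (Fin n) F).transpose.transpose * S.1 = 1
        rw [Matrix.transpose_transpose]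
        exact congrArg Subtype.val (inv_mul_cancel S)
      have e3 : ((A : Matrix (Fin n) (Fin n) F) * (itm S).1.map σ *
          ((A⁻¹ : GL (Fin n) F) : Matrix (Fin n) (Fin n) F)).transpose * S'.1 = 1 := by
        rw [hS, Matrix.transpose_mul, Matrix.transpose_mul]
        change ((A⁻¹ : GL (Fin n) F) : Matrix (Fin n) (Fin n) F).transpose * (((itm S).1.map σ).transpose *
          (A : Matrix (Fin n) (Fin n) F).transpose) * (((A⁻¹ : GL (Fin n) F) : Matrix (Fin n) (Fin n) F).transpose *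
          S.1.map σ * (A : Matrix (Fin n) (Fin n) F).transpose) = 1
        have e4 : (A : Matrix (Fin n) (Fin n) F).transpose *
            ((A⁻¹ : GL (Fin n) F) : Matrix (Fin n) (Fin n) F).transpose = 1 := by
          rw [← Matrix.transpose_mul, ← Units.val_mul, inv_mul_cancel, Units.val_one, Matrix.transpose_one]
        have e5 : ((A⁻¹ : GL (Fin n) F) : Matrix (Fin n) (Fin n) F).transpose *
            (A : Matrix (Fin n) (Fin n) F).transpose = 1 := by
          rw [← Matrix.transpose_mul, ← Units.val_mul, mul_inv_cancel, Units.val_one, Matrix.transpose_one]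
        have e6 : ((itm S).1.map σ).transpose * S.1.map σ = 1 := by
          rw [← Matrix.transpose_map, ← Matrix.map_mul, e2, Matrix.map_one _ (map_zero σ) (map_one σ)]
        calc _ = ((A⁻¹ : GL (Fin n) F) : Matrix (Fin n) (Fin n) F).transpose * (((itm S).1.map σ).transpose *
              ((A : Matrix (Fin n) (Fin n) F).transpose *
              ((A⁻¹ : GL (Fin n) F) : Matrix (Fin n) (Fin n) F).transpose) * S.1.map σ) *
              (A : Matrix (Fin n) (Fin n) F).transpose := by simp only [Matrix.mul_assoc]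
          _ = 1 := by rw [e4, mul_one, e6, mul_one, e5]
      have e7 : (itm S').1.transpose = ((A : Matrix (Fin n) (Fin n) F) * (itm S).1.map σ *
          ((A⁻¹ : GL (Fin n) F) : Matrix (Fin n) (Fin n) F)).transpose := by
        have hS'u : S'.1 * (itm S').1.transpose = 1 := mul_eq_one_comm.1 e1
        rw [← one_mul (itm S').1.transpose, ← e3, mul_assoc, hS'u, mul_one]
      have e8 := congrArg Matrix.transpose e7
      rwa [Matrix.transpose_transpose, Matrix.transpose_transpose] at e8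
    rw [hA (itm S) (itm S') hT, it_apply h, itm_itm]
  | one => rw [mul_one, it_sq h]; exact one_mem _
  | mul β β' h1 h2 ih1 ih2 =>
    have := mul_mem (ih1 h1) (ih2 h2)
    have e : γ * β * γ * (γ * β' * γ) = γ * (β * β') * γ := by
      calc γ * β * γ * (γ * β' * γ) = γ * β * (γ * γ) * β' * γ := by group
        _ = _ := by rw [it_sq h, mul_one, ← mul_assoc]
    rwa [e] at this
  | inv β h1 ih =>
    have := inv_mem (ih h1)
    have e : (γ * β * γ)⁻¹ = γ * β⁻¹ * γ := by
      rw [mul_inv_rev, mul_inv_rev, hinv, mul_assoc]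
    rwa [e] at this

/-- `PΓL_n` has index at most two in the automorphism group -/
theorem gamma_index [Fintype F] (hn : 2 ≤ n) (hs : n = 2 → 4 ≤ Fintype.card F)
    {a b : MulAut (Matrix.ProjectiveSpecialLinearGroup (Fin n) F)} (ha : a ∉ Cfsg.gammaPSL n F)
    (hb : b ∉ Cfsg.gammaPSL n F) : a * b ∈ Cfsg.gammaPSL n F := by
  obtain ⟨p, hp⟩ := CharP.exists F
  obtain ⟨k, hpp, hk⟩ := FiniteField.card F p
  have : Fact p.Prime := ⟨hpp⟩
  have key : ∀ c : MulAut (Matrix.ProjectiveSpecialLinearGroup (Fin n) F), c ∉ Cfsg.gammaPSL n F →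
      ∃ (τ γ : MulAut (Matrix.ProjectiveSpecialLinearGroup (Fin n) F)), τ ∈ Cfsg.gammaPSL n F ∧
        Cfsg.IsInverseTransposeAutPSL γ ∧ c = τ * γ := by
    intro c hc
    obtain ⟨δ, φ, γ, σ, h1, h2, h3, h4⟩ := S2690.result (F := F) (p := p) (f := k) hk k.2 hn hs c
    rcases h3 with h3 | h3
    · exfalso
      apply hc
      rw [h4, h3, mul_one]
      exact mul_mem (gamma_of_diag h1) (gamma_of_field h2)
    · exact ⟨δ * φ, γ, mul_mem (gamma_of_diag h1) (gamma_of_field h2), h3, h4⟩
  obtain ⟨τ, γ, h1, h2, rfl⟩ := key a ha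
  obtain ⟨τ', γ', h1', h2', rfl⟩ := key b hb
  obtain rfl := it_unique h2 h2'
  have e : τ * γ * (τ' * γ) = τ * (γ * τ' * γ) := by group
  rw [e]
  exact mul_mem h1 (it_conj h2 h1')

end gam

/-- **(RED)** for row A, linear and field cases separated -/
theorem red_A_split {F : Type} [Field F] [Fintype F] {n : ℕ} (hn : 2 ≤ n)
    (hS : IsSimpleGroup (Matrix.ProjectiveSpecialLinearGroup (Fin n) F))
    (hSn : ¬ IsMulCommutative (Matrix.ProjectiveSpecialLinearGroup (Fin n) F))
    (hLin : ∀ (G : Type) [Group G] [Finite G] (Ω : Type) [Finite Ω] [Nonempty Ω] [MulAction G Ω]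
      (N : Subgroup G) (_ : N ≃* Matrix.ProjectiveSpecialLinearGroup (Fin n) F)
      (κ : SLV F (Fin n → F) →* G) (ι : Type) [Finite ι] (x : ι → G) (r : ι → ℕ)
      (a : ι → (Fin n → F) ≃ₗ[F] (Fin n → F)), LinCov Ω N κ x r a → False)
    (hField : ∀ (G : Type) [Group G] [Finite G] (Ω : Type) [Finite Ω] [Nonempty Ω] [MulAction G Ω]
      (N : Subgroup G) (_ : N ≃* Matrix.ProjectiveSpecialLinearGroup (Fin n) F)
      (κ : SLV F (Fin n → F) →* G) (ι : Type) [Finite ι] (x : ι → G) (r : ι → ℕ)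
      (f : ι → (Fin n → F) ≃+ (Fin n → F)) (σ : ι → F ≃+* F) (i₀ : ι), SemiCov Ω N κ x r f σ →
      σ i₀ ≠ 1 → orderOf (σ i₀) = r i₀ →
      (∃ b : Basis (Fin n) F (Fin n → F), ∀ k, f i₀ (b k) = b k) →
      (∀ v, (f i₀ : (Fin n → F) → (Fin n → F))^[r i₀] v = v) → (∀ j v, f j (f i₀ v) = f i₀ (f j v)) → False)
    {g : MulAut (Matrix.ProjectiveSpecialLinearGroup (Fin n) F)} (hg : g ∈ Cfsg.gammaPSL n F) :
    RCe (Matrix.ProjectiveSpecialLinearGroup (Fin n) F) g := by
  have hd : finrank F (Fin n → F) = n := by rw [finrank_fintype_fun_eq_card, Fintype.card_fin]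
  apply red_A hS hSn ?_ hg
  intro G _ _ Ω _ _ _ N e κ ι _ x r f σ hcov
  by_cases hσ : ∀ i, σ i = 1
  · exact hLin G Ω N e κ ι x r _ (hcov.linCov (by omega) hσ)
  · push Not at hσ
    obtain ⟨i₀, h0⟩ := hσ
    obtain ⟨h1, f', h2, ⟨b, hb⟩, h4, h5⟩ := hcov.field (by omega) h0
    refine hField G Ω N e κ ι x r f' σ i₀ h2 h0 h1 ⟨b.reindex (finCongr hd), fun k => ?_⟩ h4 h5
    rw [Basis.reindex_apply]
    exact hb _

end Cfsg.Agent.H233.RC
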